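import Cfsg.Agent.H812.D4.Cnt
import Cfsg.Agent.H940.MaxCls
import Cfsg.Agent.H946.ExcNum_m3
import Cfsg.Agent.FastGrp
import Cfsg.Agent.Prune
set_option linter.all false
prune_inst 0x7f00000000000000000000000000000000000000000000000000000000000000000000000000000000000000000000000000000000000000000000000000000000000000000000000000000000000000003fffffffffffffffffffffffffffbeffbdffffffff
open scoped Cfsg.Agent.FastGrp

-- part: H812/D4/Pts2
section
/-!
# Groups of type `³D₄`, any characteristic: the numbers of points (helper812)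
-/

set_option autoImplicit false

namespace Cfsg.Agent.H812.D4

open Cfsg.Agent.SplitTwo Cfsg.Agent.TitsThree.RankTwoZ Cfsg.Agent.Lib.SL2Mat Cfsg.Agent.Cit.HexBase
  Cfsg.Agent.Cit.HexBase.HexGrp Cfsg.Agent.H812.D4.Pts

universe u

variable {E : Type*} [Field E] {σ : E ≃+* E} {L : Type u} [Group L] {c : HexGrp σ L}

theorem ncard_fix : {a : E | σ a = a}.ncard = Nat.card ↥(fx σ) := rfl

theorem ncard_BB (A : AddSubgroup E) (s : Finset (ZMod (2 * 6))) (i : Fin 6) :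
    (BB σ A s i).ncard = if rt i ∈ s then (if i.val % 2 = 1 then Nat.card ↥(fx σ) else Nat.card A) else 1 := by
  unfold BB
  split_ifs
  · exact ncard_fix
  · rfl
  · exact Set.ncard_singleton 0

/-- the orders of the stabilisers -/
def stb (q α : ℕ) (k : ZMod (2 * 6)) : ℕ :=
  ∏ i : Fin 6, if rt i ∈ Cs k then (if i.val % 2 = 1 then q else α) else 1

theorem idxC : ∀ i : Fin 6, (rt i ∈ Cs 4 ↔ True) ∧ (rt i ∈ Cs 2 ↔ i.val < 5) ∧ (rt i ∈ Cs 6 ↔ 2 ≤ i.val) ∧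
    (rt i ∈ Cs 0 ↔ i.val < 3) ∧ (rt i ∈ Cs 8 ↔ 4 ≤ i.val) ∧ (rt i ∈ Cs 10 ↔ i.val < 1) := by decide +kernel

theorem stb4 (q α : ℕ) : stb q α 4 = α ^ 3 * q ^ 3 := by
  unfold stb
  simp only [(idxC _).1, Fin.prod_univ_six]
  simp only [↓ _root_.reduceIte, _root_.Fin.isValue, _root_.Fin.coe_ofNat_eq_mod, _root_.Nat.zero_mod, _root_.zero_ne_one, _root_.Nat.one_mod, _root_.Nat.mod_succ, _root_.Nat.reduceMod, _root_.Nat.mod_self]
  ring

theorem stb2 (q α : ℕ) : stb q α 2 = α ^ 3 * q ^ 2 := by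
  unfold stb
  simp only [(idxC _).2.1, Fin.prod_univ_six]
  simp only [_root_.Fin.isValue, _root_.Fin.coe_ofNat_eq_mod, _root_.Nat.zero_mod, _root_.Nat.ofNat_pos, ↓ _root_.reduceIte, _root_.zero_ne_one, _root_.Nat.one_mod, _root_.Nat.one_lt_ofNat, _root_.Nat.mod_succ, _root_.Nat.reduceMod, _root_.Nat.reduceLT, _root_.Nat.mod_self, _root_.Nat.lt_add_one, _root_.lt_self_iff_false, _root_.mul_one]
  ring

theorem stb6 (q α : ℕ) : stb q α 6 = α ^ 2 * q ^ 2 := by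
  unfold stb
  simp only [(idxC _).2.2.1, Fin.prod_univ_six]
  simp only [_root_.Fin.isValue, _root_.Fin.coe_ofNat_eq_mod, _root_.Nat.zero_mod, _root_.nonpos_iff_eq_zero, _root_.OfNat.ofNat_ne_zero, ↓ _root_.reduceIte, _root_.Nat.one_mod, _root_.Nat.not_ofNat_le_one, _root_.mul_one, _root_.Nat.reduceMod, _root_.Std.le_refl, _root_.Nat.mod_self, _root_.zero_ne_one, _root_.one_mul, _root_.Nat.reduceLeDiff, _root_.Nat.mod_succ]
  ring

theorem stb0 (q α : ℕ) : stb q α 0 = α ^ 2 * q := by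
  unfold stb
  simp only [(idxC _).2.2.2.1, Fin.prod_univ_six]
  simp only [_root_.Fin.isValue, _root_.Fin.coe_ofNat_eq_mod, _root_.Nat.zero_mod, _root_.Nat.ofNat_pos, ↓ _root_.reduceIte, _root_.zero_ne_one, _root_.Nat.one_mod, _root_.Nat.one_lt_ofNat, _root_.Nat.mod_succ, _root_.Nat.reduceMod, _root_.Nat.lt_add_one, _root_.Nat.mod_self, _root_.lt_self_iff_false, _root_.mul_one, _root_.Nat.reduceLT]
  ring

theorem stb8 (q α : ℕ) : stb q α 8 = α * q := by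
  unfold stb
  simp only [(idxC _).2.2.2.2.1, Fin.prod_univ_six]
  simp only [_root_.Fin.isValue, _root_.Fin.coe_ofNat_eq_mod, _root_.Nat.zero_mod, _root_.nonpos_iff_eq_zero, _root_.OfNat.ofNat_ne_zero, ↓ _root_.reduceIte, _root_.Nat.one_mod, _root_.Nat.not_ofNat_le_one, _root_.mul_one, _root_.Nat.reduceMod, _root_.Nat.reduceLeDiff, _root_.Std.le_refl, _root_.zero_ne_one, _root_.one_mul, _root_.Nat.mod_succ]

theorem stb10 (q α : ℕ) : stb q α 10 = α := by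
  unfold stb
  simp only [(idxC _).2.2.2.2.2, Fin.prod_univ_six]
  simp

section

variable [Finite E] {A : AddSubgroup E} {hA : GoodA σ A}

theorem card_inf_eq {k : ZMod (2 * 6)} (hk : k ∈ Ev) :
    Nat.card ↥(VA c hA ⊓ nz (c.X k)) = stb (Nat.card ↥(fx σ)) (Nat.card A) k := by
  rw [card_VA_inf hk]
  unfold stb
  exact Finset.prod_congr rfl fun i _ => ncard_BB A _ i

omit [Finite E] in
theorem VA_le_nz4 : VA c hA ≤ nz (c.X 4) := fun _ hv =>
  mem_nz_of_comm fun _ hx => c.comm4 (VA_le hv) hx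

theorem card_VA : Nat.card ↥(VA c hA) = Nat.card A ^ 3 * Nat.card ↥(fx σ) ^ 3 := by
  have h1 : VA c hA ⊓ nz (c.X 4) = VA c hA := inf_eq_left.2 VA_le_nz4
  have h2 := card_inf_eq (c := c) (hA := hA) (k := 4) (by decide)
  rw [h1, stb4] at h2
  exact h2

/-- the orbit lengths -/
def wt (q α : ℕ) (k : ZMod (2 * 6)) : ℕ :=
  if k = 4 then 1 else if k = 2 then q else if k = 6 then q * α else if k = 0 then q ^ 2 * α else
    if k = 8 then q ^ 2 * α ^ 2 else q ^ 3 * α ^ 2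

omit [Finite E] in
theorem wt4 (q α : ℕ) : wt q α 4 = 1 := if_pos rfl
omit [Finite E] in
theorem wt2 (q α : ℕ) : wt q α 2 = q := by
  unfold wt; rw [if_neg (by decide), if_pos rfl]
omit [Finite E] in
theorem wt6 (q α : ℕ) : wt q α 6 = q * α := by
  unfold wt; rw [if_neg (by decide), if_neg (by decide), if_pos rfl]
omit [Finite E] in
theorem wt0 (q α : ℕ) : wt q α 0 = q ^ 2 * α := by
  unfold wt; rw [if_neg (by decide), if_neg (by decide), if_neg (by decide), if_pos rfl]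
omit [Finite E] in
theorem wt8 (q α : ℕ) : wt q α 8 = q ^ 2 * α ^ 2 := by
  unfold wt; rw [if_neg (by decide), if_neg (by decide), if_neg (by decide), if_neg (by decide), if_pos rfl]
omit [Finite E] in
theorem wt10 (q α : ℕ) : wt q α 10 = q ^ 3 * α ^ 2 := by
  unfold wt; rw [if_neg (by decide), if_neg (by decide), if_neg (by decide), if_neg (by decide), if_neg (by decide)]

theorem ncard_pts {k : ZMod (2 * 6)} (hk : k ∈ Ev) :
    (pts (VA c hA) (c.X k)).ncard = wt (Nat.card ↥(fx σ)) (Nat.card A) k := by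
  have h := card_pts (VA c hA) (c.X k)
  rw [card_inf_eq hk, card_VA] at h
  have hq : 0 < Nat.card ↥(fx σ) := Nat.card_pos
  have hα : 0 < Nat.card A := Nat.card_pos
  generalize Nat.card ↥(fx σ) = q at *
  generalize Nat.card A = α at *
  have h5 : ∀ k ∈ Ev, k = 0 ∨ k = 2 ∨ k = 4 ∨ k = 6 ∨ k = 8 ∨ k = 10 := by decide +kernel
  have key : ∀ {m w : ℕ}, stb q α k = m → 0 < m → w * m = α ^ 3 * q ^ 3 → (pts (VA c hA) (c.X k)).ncard = w := by
    intro m w e hm hw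
    rw [e] at h
    exact Nat.eq_of_mul_eq_mul_right hm (h.trans hw.symm)
  rcases h5 k hk with rfl | rfl | rfl | rfl | rfl | rfl
  · exact key (stb0 q α) (by positivity) (by rw [wt0]; ring)
  · exact key (stb2 q α) (by positivity) (by rw [wt2]; ring)
  · exact key (stb4 q α) (by positivity) (by rw [wt4]; ring)
  · exact key (stb6 q α) (by positivity) (by rw [wt6]; ring)
  · exact key (stb8 q α) (by positivity) (by rw [wt8]; ring)
  · exact key (stb10 q α) (by positivity) (by rw [wt10]; ring)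

/-! ### The three cases -/

omit [Finite E] in
theorem good_top : GoodA σ ⊤ where
  smul _ _ _ _ := trivial
  shp _ _ := trivial
  crs _ _ _ _ := trivial
  inv _ _ := trivial

omit [Finite E] in
theorem good_bot : GoodA σ ⊥ where
  smul t _ a ha := by
    rw [AddSubgroup.mem_bot] at ha ⊢
    rw [ha, mul_zero]
  shp a ha := by
    rw [AddSubgroup.mem_bot] at ha ⊢
    rw [ha]; unfold shp; simp
  crs a ha b hb := by
    rw [AddSubgroup.mem_bot] at ha hb ⊢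
    rw [ha, hb]; unfold crs; simp
  inv a ha := by
    rw [AddSubgroup.mem_bot] at ha ⊢
    rw [ha, inv_zero]

omit [Finite E] in
theorem good_fix : GoodA σ (fx σ).toSubring.toAddSubgroup where
  smul t ht a ha := mul_fix ht ha
  shp a ha := by
    have h : σ a = a := ha
    show σ _ = _
    unfold shp
    rw [h, h, map_mul, h]
  crs a ha b hb := by
    have h : σ a = a := ha
    have h' : σ b = b := hb
    show σ _ = _
    unfold crs
    rw [h, h', h, h', map_add, map_mul, h, h']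
  inv a ha := inv_fix ha

omit [Finite E] in
theorem VA_top : VA c good_top = Sg c.X Pos := by
  apply le_antisymm VA_le
  intro g hg
  obtain ⟨y1, m1, y2, m2, y3, m3, y4, m4, y5, m5, y6, m6, rfl⟩ := c.exists_prod hg
  obtain ⟨a1, rfl⟩ := (c.par.mem1 _).1 m1
  obtain ⟨a2, f2, rfl⟩ := (c.par.mem2 _).1 m2
  obtain ⟨a3, rfl⟩ := (c.par.mem3 _).1 m3
  obtain ⟨a4, f4, rfl⟩ := (c.par.mem4 _).1 m4
  obtain ⟨a5, rfl⟩ := (c.par.mem5 _).1 m5
  obtain ⟨a6, f6, rfl⟩ := (c.par.mem6 _).1 m6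
  exact six_VA trivial f2 trivial f4 trivial f6

omit [Finite E] in
theorem card_top_add : Nat.card (⊤ : AddSubgroup E) = Nat.card E := AddSubgroup.card_top

/-- orbits of `U` on the long root groups -/
theorem eq_of_cj (hE : Nat.card E = Nat.card ↥(fx σ) ^ 3) {u : L} (hu : u ∈ Sg c.X Pos) {k j : ZMod (2 * 6)}
    (hk : k ∈ Ev) (hj : j ∈ Ev) (h : cj u (c.X k) = c.X j) : k = j := by
  have h1 : pts (VA c good_top) (c.X k) = pts (VA c good_top) (c.X j) := by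
    rw [← VA_top] at hu
    ext B
    rw [mem_pts, mem_pts]
    constructor
    · rintro ⟨v, hv, rfl⟩
      refine ⟨v * u⁻¹, mul_mem hv (inv_mem hu), ?_⟩
      rw [← h, ← cj_mul]
      congr 1
      group
    · rintro ⟨v, hv, rfl⟩
      refine ⟨v * u, mul_mem hv hu, ?_⟩
      rw [← h, ← cj_mul]
  have h2 := congrArg Set.ncard h1
  rw [ncard_pts hk, ncard_pts hj, card_top_add, hE] at h2
  have hq : 2 ≤ Nat.card ↥(fx σ) := Finite.one_lt_card
  generalize Nat.card ↥(fx σ) = q at h2 hq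
  have hw : ∀ k ∈ Ev, ∃ e, (k = 4 ∧ e = 0 ∨ k = 2 ∧ e = 1 ∨ k = 6 ∧ e = 4 ∨ k = 0 ∧ e = 5 ∨ k = 8 ∧ e = 8 ∨
      k = 10 ∧ e = 9) ∧ wt q (q ^ 3) k = q ^ e := by
    have h5 : ∀ k ∈ Ev, k = 0 ∨ k = 2 ∨ k = 4 ∨ k = 6 ∨ k = 8 ∨ k = 10 := by decide +kernel
    intro k hk
    rcases h5 k hk with rfl | rfl | rfl | rfl | rfl | rfl
    · exact ⟨5, by simp only [_root_.Nat.reduceMul, _root_.OfNat.ofNat_ne_zero, _root_.and_false, _root_.OfNat.ofNat_ne_one, _root_.Nat.succ_ne_self, _root_.and_self, _root_.Nat.reduceEqDiff, _root_.or_self, _root_.or_false, _root_.or_true], by rw [wt0]; ring⟩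
    · exact ⟨1, by simp only [_root_.Nat.reduceMul, _root_.one_ne_zero, _root_.and_false, _root_.and_self, _root_.OfNat.one_ne_ofNat, _root_.or_self, _root_.or_false, _root_.or_true], by rw [wt2]; ring⟩
    · exact ⟨0, by simp only [_root_.Nat.reduceMul, _root_.and_self, _root_.zero_ne_one, _root_.and_false, _root_.OfNat.zero_ne_ofNat, _root_.or_self, _root_.or_false], by rw [wt4]; ring⟩
    · exact ⟨4, by simp, by rw [wt6]; ring⟩
    · exact ⟨8, by simp, by rw [wt8]; ring⟩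
    · exact ⟨9, by simp, by rw [wt10]; ring⟩
  obtain ⟨e, he, h3⟩ := hw k hk
  obtain ⟨e', he', h4⟩ := hw j hj
  rw [h3, h4] at h2
  have h5 : e = e' := Nat.pow_right_injective hq h2
  subst h5
  rcases he with ⟨rfl, e0⟩ | ⟨rfl, e0⟩ | ⟨rfl, e0⟩ | ⟨rfl, e0⟩ | ⟨rfl, e0⟩ | ⟨rfl, e0⟩ <;>
  rcases he' with ⟨rfl, e1⟩ | ⟨rfl, e1⟩ | ⟨rfl, e1⟩ | ⟨rfl, e1⟩ | ⟨rfl, e1⟩ | ⟨rfl, e1⟩ <;>
  first | rfl | (clear * - e0 e1; omega)

/-- **the number of points of `SV`** -/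
theorem ncard_SV [Finite L] (hE : Nat.card E = Nat.card ↥(fx σ) ^ 3) : (SV c hA).ncard =
    1 + Nat.card ↥(fx σ) + Nat.card ↥(fx σ) * Nat.card A + Nat.card ↥(fx σ) ^ 2 * Nat.card A +
      Nat.card ↥(fx σ) ^ 2 * Nat.card A ^ 2 + Nat.card ↥(fx σ) ^ 3 * Nat.card A ^ 2 := by
  classical
  have hfin : ∀ k, (pts (VA c hA) (c.X k)).Finite := fun k => Set.toFinite _
  have h1 : (SV c hA) = ((Ev.biUnion fun k => (hfin k).toFinset : Finset (Subgroup L)) : Set (Subgroup L)) := by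
    ext B
    rw [Finset.mem_coe, Finset.mem_biUnion]
    constructor
    · rintro ⟨u, hu, k, hk, rfl⟩
      exact ⟨k, hk, by rw [Set.Finite.mem_toFinset]; exact ⟨u, hu, rfl⟩⟩
    · rintro ⟨k, hk, h⟩
      rw [Set.Finite.mem_toFinset] at h
      obtain ⟨u, hu, rfl⟩ := h
      exact ⟨u, hu, k, hk, rfl⟩
  rw [h1, Set.ncard_coe_finset, Finset.card_biUnion]
  · have h2 : ∀ k ∈ Ev, ((hfin k).toFinset).card = wt (Nat.card ↥(fx σ)) (Nat.card A) k := by
      intro k hk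
      rw [← Set.ncard_eq_toFinset_card _ (hfin k), ncard_pts hk]
    rw [Finset.sum_congr rfl h2]
    have h3 : (Ev : Finset (ZMod (2 * 6))) = {4, 2, 6, 0, 8, 10} := by decide +kernel
    rw [h3]
    rw [Finset.sum_insert (by decide), Finset.sum_insert (by decide), Finset.sum_insert (by decide),
      Finset.sum_insert (by decide), Finset.sum_insert (by decide), Finset.sum_singleton, wt4, wt2, wt6, wt0, wt8, wt10]
    ring
  · intro k hk j hj hkj
    rw [Function.onFun, Finset.disjoint_left]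
    intro B h h'
    rw [Set.Finite.mem_toFinset] at h h'
    obtain ⟨u, hu, rfl⟩ := h
    obtain ⟨v, hv, e⟩ := h'
    apply hkj
    refine eq_of_cj hE (u := v⁻¹ * u) (VA_le (hA := hA) (mul_mem (inv_mem hv) hu)) hk hj ?_
    rw [cj_mul, e, cj_inv_cj]

end

end Cfsg.Agent.H812.D4
end

-- part: H812/D4/Geo
section
/-!
# Groups of type `³D₄`, any characteristic: overgroups of subsystem subgroups (helper812)
-/

set_option autoImplicit false

namespace Cfsg.Agent.H812.D4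

open Cfsg.Agent.SplitTwo Cfsg.Agent.TitsThree.RankTwoZ Cfsg.Agent.Lib.SL2Mat Cfsg.Agent.Cit.HexBase
  Cfsg.Agent.Cit.HexBase.HexGrp Cfsg.Agent.H812.D4.Pts

universe u

variable {E : Type*} [Field E] {σ : E ≃+* E} {L : Type u} [Group L] {c : HexGrp σ L}

/-- `H` contains `VA`, `n1`, `n6` and acts on `SV` -/
structure Sb (c : HexGrp σ L) {A : AddSubgroup E} (hA : GoodA σ A) (H : Subgroup L) : Prop where
  va : VA c hA ≤ H
  n1 : c.n1 ∈ H
  n6 : c.n6 ∈ H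
  sv : ∀ g ∈ H, ∀ B ∈ SV c hA, cj g B ∈ SV c hA

section

variable {A : AddSubgroup E} {hA : GoodA σ A}

/-- subgroups generated by elements acting on `SV` -/
theorem sb_closure [Finite L] {S : Set L} (h : (VA c hA : Set L) ⊆ S) (h1 : c.n1 ∈ S) (h6 : c.n6 ∈ S)
    (hS : ∀ g ∈ S, ∀ B ∈ SV c hA, cj g B ∈ SV c hA) : Sb c hA (Subgroup.closure S) where
  va _ hg := Subgroup.subset_closure (h hg)
  n1 := Subgroup.subset_closure h1
  n6 := Subgroup.subset_closure h6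
  sv g hg := by
    induction hg using Subgroup.closure_induction with
    | mem g hg => exact hS g hg
    | one => intro B hB; rwa [cj_one]
    | mul x y _ _ hx hy => intro B hB; rw [cj_mul]; exact hx _ (hy _ hB)
    | inv x _ hx =>
      have hp : ∀ n : ℕ, ∀ B ∈ SV c hA, cj (x ^ n) B ∈ SV c hA := by
        intro n
        induction n with
        | zero => intro B hB; rwa [pow_zero, cj_one]
        | succ n ih => intro B hB; rw [pow_succ, cj_mul]; exact ih _ (hx _ hB)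
      have e : x⁻¹ = x ^ (orderOf x - 1) := by
        rw [inv_eq_iff_mul_eq_one, ← pow_succ', Nat.sub_add_cancel (orderOf_pos x), pow_orderOf_eq_one]
      rw [e]
      exact hp _

theorem Sb.rot_mem {H : Subgroup L} (h : Sb c hA H) (r : ℕ) : (c.n1 * c.n6) ^ r ∈ H := pow_mem (mul_mem h.n1 h.n6) r

/-- the points of `H` -/
theorem Sb.pts_eq {H : Subgroup L} (h : Sb c hA H) : pts H (c.X 4) = SV c hA := by
  ext B
  constructor
  · rintro ⟨g, hg, rfl⟩
    exact h.sv g hg _ (X_SV (by decide))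
  · rintro ⟨u, hu, k, hk, rfl⟩
    obtain ⟨r, hr⟩ := exists_rot c hk
    exact ⟨u * (c.n1 * c.n6) ^ r, mul_mem (h.va hu) (h.rot_mem r), by rw [cj_mul, hr]⟩

theorem Sb.X4_le {H : Subgroup L} (h : Sb c hA H) : c.X 4 ≤ H := by
  intro x hx
  obtain ⟨t, ht, rfl⟩ := (c.par.mem4 _).1 hx
  exact h.va (x4_VA ht)

theorem Sb.le {H : Subgroup L} (h : Sb c hA H) {B : Subgroup L} (hB : B ∈ SV c hA) : B ≤ H := by
  rw [← h.pts_eq] at hB
  obtain ⟨g, hg, rfl⟩ := hB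
  exact cj_le hg h.X4_le

theorem Sb.X_le {H : Subgroup L} (h : Sb c hA H) {k : ZMod (2 * 6)} (hk : k ∈ Ev) : c.X k ≤ H := h.le (X_SV hk)

theorem pa_lo_eq (b : ↥(fx σ)) : c.pa (lo b) = c.n6 * c.x6 ((-b : ↥(fx σ)) : E) * c.n6⁻¹ := by
  rw [← c.pa_up, HexGrp.n6, ← map_inv, ← map_mul, ← map_mul, wm_up']
  congr 2
  simp

theorem pb_lo_eq (b : E) : c.pb (lo b) = c.n1 * c.x1 (-b) * c.n1⁻¹ := by
  rw [← c.pb_up, HexGrp.n1, ← map_inv, ← map_mul, ← map_mul, wm_up']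
  congr 2
  simp

theorem eq_top_of {K : Subgroup L} (h1 : c.n1 ∈ K) (h6 : c.n6 ∈ K) (hX1 : ∀ a, c.x1 a ∈ K)
    (hX6 : ∀ t, σ t = t → c.x6 t ∈ K) : K = ⊤ := by
  have ha : ∀ a, c.pa (up a) ∈ K := fun a => by rw [c.pa_up]; exact hX6 _ a.2
  have hb : ∀ a, c.pb (up a) ∈ K := fun a => by rw [c.pb_up]; exact hX1 _
  have ha' : ∀ a, c.pa (lo a) ∈ K := fun a => by
    rw [pa_lo_eq]; exact mul_mem (mul_mem h6 (hX6 _ (-a : ↥(fx σ)).2)) (inv_mem h6)
  have hb' : ∀ a, c.pb (lo a) ∈ K := fun a => by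
    rw [pb_lo_eq]; exact mul_mem (mul_mem h1 (hX1 _)) (inv_mem h1)
  apply c.closure_eq_top
  · intro x
    obtain ⟨a, b, d, e, rfl⟩ := exists_up_lo x
    rw [map_mul, map_mul, map_mul]
    exact mul_mem (mul_mem (mul_mem (ha _) (ha' _)) (ha _)) (ha' _)
  · intro x
    obtain ⟨a, b, d, e, rfl⟩ := exists_up_lo x
    rw [map_mul, map_mul, map_mul]
    exact mul_mem (mul_mem (mul_mem (hb _) (hb' _)) (hb _)) (hb' _)

variable (c) in
theorem sb_top [Finite L] : Sb c good_top ⊤ := by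
  have h := sb_closure (c := c) (hA := good_top) (S := (VA c good_top : Set L) ∪ {c.n1, c.n6})
    Set.subset_union_left (Or.inr (Or.inl rfl)) (Or.inr (Or.inr rfl)) (by
      rintro g (hg | rfl | rfl) B hB
      · exact VA_SV hg hB
      · exact n1_SV hB
      · exact n6_SV hB)
  rwa [eq_top_of h.n1 h.n6 (fun a => h.va (x1_VA trivial)) (fun t ht => h.va (x6_VA ht))] at h

/-- every point is `u (X k) u⁻¹` -/
theorem exists_pt [Finite L] {B : Subgroup L} (hB : B ∈ pts ⊤ (c.X 4)) :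
    ∃ u ∈ Sg c.X Pos, ∃ k ∈ Ev, B = cj u (c.X k) := by
  rw [(sb_top c).pts_eq] at hB
  obtain ⟨u, hu, k, hk, e⟩ := hB
  exact ⟨u, VA_le hu, k, hk, e⟩

theorem pt_top {g : L} {k : ZMod (2 * 6)} (hk : k ∈ Ev) : cj g (c.X k) ∈ pts ⊤ (c.X 4) := by
  obtain ⟨r, hr⟩ := exists_rot c hk
  exact ⟨g * (c.n1 * c.n6) ^ r, trivial, by rw [cj_mul, hr]⟩

/-! ### Commuting points -/

/-- elementwise commutation -/
def Cm (B C : Subgroup L) : Prop := ∀ x ∈ B, ∀ y ∈ C, x * y = y * x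

theorem Cm.cj {B C : Subgroup L} (h : Cm B C) (g : L) : Cm (cj g B) (cj g C) := by
  intro x hx y hy
  rw [mem_cj] at hx hy
  have h1 := h _ hx _ hy
  have e : ∀ x y : L, x * y = g * (g⁻¹ * x * g * (g⁻¹ * y * g)) * g⁻¹ := fun x y => by group
  rw [e x y, h1, ← e y x]

theorem cm_even {k j : ZMod (2 * 6)} (hk : k ∈ Ev) (h : (j - k + 3).val ≤ 6) : Cm (c.X k) (c.X j) :=
  comm_even c hk h

theorem cj_X4 {u : L} (hu : u ∈ Sg c.X Pos) : cj u (c.X 4) = c.X 4 := mem_nz_of_comm fun _ hx => c.comm4 hu hx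

theorem not_cm_10 : ¬ Cm (c.X 10) (c.X 4) := by
  intro h
  have h1 := h _ (c.p4_lo_mem 1) _ (c.p4_up_mem 1)
  rw [← map_mul, ← map_mul] at h1
  have h2 := congrArg (fun x => ent x 0 0) (c.p4_inj h1)
  simp [ent_mul] at h2

theorem not_cm_8 : ¬ Cm (c.X 8) (c.X 4) := by
  intro h
  exact not_comm c (k := 4) (by decide) fun x hx y hy => (h y hy x hx).symm

theorem not_cm_0 : ¬ Cm (c.X 0) (c.X 4) := by
  intro h
  exact not_comm c (k := 0) (by decide) fun x hx y hy => h x hx y (by simpa using hy)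

theorem ev_cases : ∀ k ∈ Ev, k = 4 ∨ k = 2 ∨ k = 6 ∨ k = 0 ∨ k = 8 ∨ k = 10 := by decide +kernel

/-- the points commuting with `X 4` -/
theorem cm_cases {u : L} (hu : u ∈ Sg c.X Pos) {k : ZMod (2 * 6)} (hk : k ∈ Ev) (h : Cm (cj u (c.X k)) (c.X 4)) :
    k = 4 ∨ k = 2 ∨ k = 6 := by
  have h1 : Cm (c.X k) (c.X 4) := by
    have := h.cj u⁻¹
    rwa [cj_inv_cj, cj_X4 (inv_mem hu)] at this
  rcases ev_cases k hk with rfl | rfl | rfl | rfl | rfl | rfl
  · exact Or.inl rfl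
  · exact Or.inr (Or.inl rfl)
  · exact Or.inr (Or.inr rfl)
  · exact absurd h1 not_cm_0
  · exact absurd h1 not_cm_8
  · exact absurd h1 not_cm_10

theorem Ns2 : Ns 2 = {6} := by decide +kernel
theorem Ns6 : Ns 6 = {1, 2} := by decide +kernel

/-- the `U`-conjugates of `X 2` -/
theorem cj_X2 {u : L} (hu : u ∈ Sg c.X Pos) : ∃ t, σ t = t ∧ cj u (c.X 2) = cj (c.x6 t) (c.X 2) := by
  obtain ⟨a, ha, b, hb, rfl⟩ := split_NC c (k := 2) (by decide) hu
  rw [Ns2] at ha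
  have h6 : a ∈ c.X 6 := (Sg_le fun k hk => by rw [Finset.mem_singleton.1 hk] : Sg c.X {6} ≤ c.X 6) ha
  obtain ⟨t, ht, rfl⟩ := (c.par.mem6 _).1 h6
  refine ⟨t, ht, ?_⟩
  rw [cj_mul, show cj b (c.X 2) = c.X 2 from Cs_le c (by decide) hb]

/-- the `U`-conjugates of `X 6` -/
theorem cj_X6 {u : L} (hu : u ∈ Sg c.X Pos) : ∃ s t, σ t = t ∧
    cj u (c.X 6) = cj (c.x2 t) (cj (c.x1 s) (c.X 6)) := by
  obtain ⟨a, ha, b, hb, rfl⟩ := split_NC c (k := 6) (by decide) hu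
  rw [Ns6] at ha
  obtain ⟨a1, h1, a2, h2, rfl⟩ := c.exists_mul (k := 1) (s := {2}) (by decide +kernel) ha
  have h2' : a2 ∈ c.X 2 := (Sg_le fun k hk => by rw [Finset.mem_singleton.1 hk] : Sg c.X {2} ≤ c.X 2) h2
  obtain ⟨t, ht, rfl⟩ := (c.par.mem2 _).1 h2'
  obtain ⟨s, rfl⟩ := (c.par.mem1 _).1 h1
  refine ⟨s, t, ht, ?_⟩
  have e := eq_of_kk (c.par.rel.c12 s t ht)
  rw [cj_mul, show cj b (c.X 6) = c.X 6 from Cs_le c (by decide) hb, e, cj_mul]

theorem cj_X2_SV {u : L} (hu : u ∈ Sg c.X Pos) : cj u (c.X 2) ∈ SV c hA := by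
  obtain ⟨t, ht, e⟩ := cj_X2 hu
  rw [e]
  exact VA_SV (x6_VA ht) (X_SV (by decide))

/-- **the geometric lemma** -/
theorem geo [Finite L] {H K : Subgroup L} (hS : Sb c hA H) (hK : H ≤ K)
    (col : ∀ B ∈ pts ⊤ (c.X 4), B ≤ K → Cm B (c.X 4) → B ∈ SV c hA) :
    ∀ B ∈ pts ⊤ (c.X 4), B ≤ K → B ∈ SV c hA := by
  -- transport of `col`
  have star : ∀ C ∈ SV c hA, ∀ B ∈ pts ⊤ (c.X 4), B ≤ K → Cm B C → B ∈ SV c hA := by
    intro C hC B hB hBK hBC
    rw [← hS.pts_eq] at hC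
    obtain ⟨g, hg, rfl⟩ := hC
    have h1 : cj g⁻¹ B ∈ SV c hA := by
      refine col _ ?_ (cj_le (inv_mem (hK hg)) hBK) ?_
      · obtain ⟨y, -, rfl⟩ := hB
        rw [← cj_mul]
        exact ⟨_, trivial, rfl⟩
      · have := hBC.cj g⁻¹
        rwa [cj_inv_cj] at this
    have h2 := hS.sv g hg _ h1
    rwa [cj_cj_inv] at h2
  intro B hB hBK
  obtain ⟨u, hu, k, hk, rfl⟩ := exists_pt hB
  have hX4K : c.X 4 ≤ K := hS.X4_le.trans hK
  have c46 : k = 4 ∨ k = 2 ∨ k = 6 → Cm (c.X k) (c.X 4) → cj u (c.X k) ∈ SV c hA := fun _ h => by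
    refine col _ hB hBK ?_
    have := h.cj u
    rwa [cj_X4 hu] at this
  rcases ev_cases k hk with rfl | rfl | rfl | rfl | rfl | rfl
  · exact c46 (Or.inl rfl) (cm_even (by decide) (by decide))
  · exact c46 (Or.inr (Or.inl rfl)) (cm_even (by decide) (by decide))
  · exact c46 (Or.inr (Or.inr rfl)) (cm_even (by decide) (by decide))
  · exact star _ (cj_X2_SV hu) _ hB hBK ((cm_even (k := 0) (j := 2) (by decide) (by decide)).cj u)
  · have h6 : cj u (c.X 6) ≤ K := by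
      refine cj_le_iff.2 fun z hz => ?_
      obtain ⟨x, hx, y, hy, rfl⟩ := exists_kk c (k := 4) (by decide) (z := z) (by
        have : (4 + 2 : ZMod (2 * 6)) = 6 := by decide
        rwa [this])
      have hy' : y ∈ c.X 8 := by
        have : (4 + 4 : ZMod (2 * 6)) = 8 := by decide
        rwa [this] at hy
      have e : u * kk x y * u⁻¹ = kk (u * x * u⁻¹) (u * y * u⁻¹) := conj_kk u x y
      have m1 : u * x * u⁻¹ ∈ K := by
        have : u * x * u⁻¹ ∈ cj u (c.X 4) := conj_mem_cj hx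
        rw [cj_X4 hu] at this
        exact hX4K this
      have m2 : u * y * u⁻¹ ∈ K := hBK (conj_mem_cj hy')
      rw [e]
      unfold kk
      exact mul_mem (mul_mem (mul_mem (inv_mem m1) (inv_mem m2)) m1) m2
    have h6' : cj u (c.X 6) ∈ SV c hA := by
      refine col _ (pt_top (by decide)) h6 ?_
      have := (cm_even (c := c) (k := 6) (j := 4) (by decide) (by decide)).cj u
      rwa [cj_X4 hu] at this
    exact star _ h6' _ hB hBK ((cm_even (k := 8) (j := 6) (by decide) (by decide)).cj u)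
  · have h2 : cj u (c.X 2) ∈ SV c hA := cj_X2_SV hu
    have h2K : cj u (c.X 2) ≤ K := (hS.le h2).trans hK
    have h0 : cj u (c.X 0) ≤ K := by
      refine cj_le_iff.2 fun z hz => ?_
      obtain ⟨x, hx, y, hy, rfl⟩ := exists_kk c (k := 10) (by decide) (z := z) (by
        have : (10 + 2 : ZMod (2 * 6)) = 0 := by decide
        rwa [this])
      have hy' : y ∈ c.X 2 := by
        have : (10 + 4 : ZMod (2 * 6)) = 2 := by decide
        rwa [this] at hy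
      have e : u * kk x y * u⁻¹ = kk (u * x * u⁻¹) (u * y * u⁻¹) := conj_kk u x y
      have m1 : u * x * u⁻¹ ∈ K := hBK (conj_mem_cj hx)
      have m2 : u * y * u⁻¹ ∈ K := h2K (conj_mem_cj hy')
      rw [e]
      unfold kk
      exact mul_mem (mul_mem (mul_mem (inv_mem m1) (inv_mem m2)) m1) m2
    have h0' : cj u (c.X 0) ∈ SV c hA :=
      star _ h2 _ (pt_top (by decide)) h0 ((cm_even (k := 0) (j := 2) (by decide) (by decide)).cj u)
    exact star _ h0' _ hB hBK ((cm_even (k := 10) (j := 0) (by decide) (by decide)).cj u)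

/-- `geo` with the condition on `X 6` only -/
theorem geo' [Finite L] {H K : Subgroup L} (hS : Sb c hA H) (hK : H ≤ K)
    (hyp : ∀ s, cj (c.x1 s) (c.X 6) ≤ K → s ∈ A) : ∀ B ∈ pts ⊤ (c.X 4), B ≤ K → B ∈ SV c hA := by
  refine geo hS hK fun B hB hBK hC => ?_
  obtain ⟨u, hu, k, hk, rfl⟩ := exists_pt hB
  rcases cm_cases hu hk hC with rfl | rfl | rfl
  · rw [cj_X4 hu]
    exact X_SV (by decide)
  · exact cj_X2_SV hu
  · obtain ⟨s, t, ht, e⟩ := cj_X6 hu
    rw [e] at hBK ⊢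
    have h1 : cj (c.x1 s) (c.X 6) ≤ K := by
      have h2 := cj_le (K := K) (inv_mem (hK (hS.va (x2_VA ht)))) hBK
      rwa [cj_inv_cj] at h2
    exact VA_SV (x2_VA ht) (VA_SV (x1_VA (hyp s h1)) (X_SV (by decide)))

end

end Cfsg.Agent.H812.D4
end

-- part: H812/D4/Col
section
/-!
# Groups of type `³D₄`, any characteristic: overgroups of `G₂(q)` and of `SL₃(q) T` (helper812)
-/

set_option autoImplicit false

namespace Cfsg.Agent.H812.D4

open Cfsg.Agent.SplitTwo Cfsg.Agent.TitsThree.RankTwoZ Cfsg.Agent.Lib.SL2Mat Cfsg.Agent.Cit.HexBase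
  Cfsg.Agent.Cit.HexBase.HexGrp Cfsg.Agent.H812.D4.Pts

universe u

variable {E : Type*} [Field E] {σ : E ≃+* E} {L : Type u} [Group L] {c : HexGrp σ L}

/-- coordinates occurring in `K ∩ Q 4` -/
def Wd (c : HexGrp σ L) (K : Subgroup L) (b3 b5 : E) : Prop := ∃ b2 b6, ∃ g ∈ K, c.NF g b2 b3 b5 b6

section

variable {K : Subgroup L}

theorem Wd.add {a b a' b' : E} (h : Wd c K a b) (h' : Wd c K a' b') : Wd c K (a + a') (b + b') := by
  obtain ⟨b2, b6, g, hg, e⟩ := h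
  obtain ⟨d2, d6, g', hg', e'⟩ := h'
  exact ⟨_, _, _, mul_mem hg hg', e.mul e'⟩

theorem Wd.neg {a b : E} (h : Wd c K a b) : Wd c K (-a) (-b) := by
  obtain ⟨b2, b6, g, hg, e⟩ := h
  exact ⟨_, _, _, inv_mem hg, e.inv⟩

theorem Wd.congr {a b a' b' : E} (h : Wd c K a b) (e : a = a') (e' : b = b') : Wd c K a' b' := by
  subst e e'
  exact h

theorem wd_x5 {b : E} (h : c.x5 b ∈ K) : Wd c K 0 b := ⟨_, _, _, h, c.nf5 b⟩

/-- the standing hypotheses on `K` -/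
structure Kh (c : HexGrp σ L) (K : Subgroup L) : Prop where
  n1 : c.n1 ∈ K
  n6 : c.n6 ∈ K
  even : ∀ k ∈ Ev, c.X k ≤ K

theorem Kh.two (h : Kh c K) {t : E} (ht : σ t = t) : c.x2 t ∈ K := h.even 2 (by decide) (c.mem2 ht)
theorem Kh.four (h : Kh c K) {t : E} (ht : σ t = t) : c.x4 t ∈ K := h.even 4 (by decide) (c.mem4 ht)
theorem Kh.six (h : Kh c K) {t : E} (ht : σ t = t) : c.x6 t ∈ K := h.even 6 (by decide) (c.mem6 ht)

theorem Wd.x3 (h : Kh c K) {b : E} (hb : Wd c K b 0) : c.x3 b ∈ K := by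
  obtain ⟨b2, b6, g, hg, f2, f6, b4, f4, rfl⟩ := hb
  rw [c.x5_zero, mul_one] at hg
  have e : c.x3 b = (c.x2 b2)⁻¹ * (c.x2 b2 * c.x3 b * c.x4 b4 * c.x6 b6) * (c.x6 b6)⁻¹ * (c.x4 b4)⁻¹ := by group
  rw [e]
  exact mul_mem (mul_mem (mul_mem (inv_mem (h.two f2)) hg) (inv_mem (h.six f6))) (inv_mem (h.four f4))

theorem Kh.x5_of_x3 (h : Kh c K) {b : E} (hb : c.x3 b ∈ K) : c.x5 b ∈ K := by
  rw [← n1_x3 c b]
  exact mul_mem (mul_mem h.n1 hb) (inv_mem h.n1)

theorem Kh.x1_of_x5 (h : Kh c K) {b : E} (hb : c.x5 b ∈ K) : c.x1 b ∈ K := by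
  have h1 := n6_x1 (c := c) b
  have e : c.x1 b = c.n6⁻¹ * c.x5 b * c.n6 := by rw [← h1]; group
  rw [e]
  exact mul_mem (mul_mem (inv_mem h.n6) hb) h.n6

/-- a point `x1 s (X 6) x1 s⁻¹` in `K` -/
theorem wd_of_pt {s : E} (h : cj (c.x1 s) (c.X 6) ≤ K) : Wd c K (-shp σ s) (-s) := by
  refine ⟨_, _, _, h (conj_mem_cj (c.mem6 (map_one σ))), (nf_P c s 1 (map_one σ)).congr rfl rfl ?_ ?_ rfl⟩
  · ring
  · ring

theorem pt_of_x1 (h : Kh c K) {s : E} (hs : c.x1 s ∈ K) : cj (c.x1 s) (c.X 6) ≤ K :=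
  cj_le hs (h.even 6 (by decide))

/-- the set of `b` with `x3 b ∈ K` -/
def M3 (c : HexGrp σ L) (K : Subgroup L) : AddSubgroup E where
  carrier := {b | c.x3 b ∈ K}
  add_mem' := by
    intro a b ha hb
    change c.x3 (a + b) ∈ K
    rw [c.x3_add]
    exact mul_mem ha hb
  zero_mem' := by
    change c.x3 0 ∈ K
    rw [c.x3_zero]
    exact one_mem _
  neg_mem' := by
    intro a ha
    change c.x3 (-a) ∈ K
    rw [c.x3_neg]
    exact inv_mem ha

theorem Kh.p4_mem (h : Kh c K) (x : SL2 ↥(fx σ)) : c.p4 x ∈ K := by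
  obtain ⟨a, b, d, e, rfl⟩ := exists_up_lo x
  have h1 : ∀ a, c.p4 (up a) ∈ K := fun a => h.even 4 (by decide) (c.p4_up_mem a)
  have h2 : ∀ a, c.p4 (lo a) ∈ K := fun a => h.even 10 (by decide) (c.p4_lo_mem a)
  rw [map_mul, map_mul, map_mul]
  exact mul_mem (mul_mem (mul_mem (h1 _) (h2 _)) (h1 _)) (h2 _)

theorem M3_smul (h : Kh c K) {t b : E} (ht : σ t = t) (hb : b ∈ M3 c K) : t * b ∈ M3 c K := by
  by_cases h0 : t = 0
  · rw [h0, zero_mul]
    exact zero_mem _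
  have h0' : (⟨t, ht⟩ : ↥(fx σ)) ≠ 0 := fun e => h0 (congrArg Subtype.val e)
  have h1 := (c.act_p4_dg ⟨t, ht⟩ h0').a3 b
  have h2 : t * shp σ 1 * b = t * b := by unfold shp; simp
  change c.p4 (dg ⟨t, ht⟩ h0') * c.x3 b * (c.p4 (dg ⟨t, ht⟩ h0'))⁻¹ = c.x3 (t * shp σ 1 * b) at h1
  rw [h2] at h1
  change c.x3 (t * b) ∈ K
  rw [← h1]
  exact mul_mem (mul_mem (h.p4_mem _) hb) (inv_mem (h.p4_mem _))

theorem M3_shp (h : Kh c K) {b : E} (hb : b ∈ M3 c K) : shp σ b ∈ M3 c K := by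
  have h5 : c.x5 b ∈ K := h.x5_of_x3 hb
  have h1 := wd_of_pt (pt_of_x1 h (h.x1_of_x5 h5))
  have h2 := (h1.add (wd_x5 h5)).neg.congr (a' := shp σ b) (b' := 0) (by ring) (by ring)
  exact h2.x3 h

theorem eq_top_of_M3 (h : Kh c K) (hM : M3 c K = ⊤) : K = ⊤ := by
  refine eq_top_of h.n1 h.n6 (fun a => h.x1_of_x5 (h.x5_of_x3 ?_)) fun t ht => h.six ht
  have : a ∈ M3 c K := by rw [hM]; trivial
  exact this

end

/-! ### Field arithmetic -/

section field

theorem fix_of_add (hc : ∀ a : E, σ (σ (σ a)) = a) {s : E} (h : σ (σ s + σ (σ s)) = σ s + σ (σ s)) : σ s = s := by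
  rw [map_add, hc] at h
  have h1 : s = σ s := by linear_combination h
  exact h1.symm

/-- `1, b, b²` are independent over the fixed field -/
theorem indep (hc : ∀ a : E, σ (σ (σ a)) = a) {b : E} (hb : σ b ≠ b) {α β γ : E} (ha : σ α = α) (hβ : σ β = β)
    (hγ : σ γ = γ) (h : α + β * b + γ * b ^ 2 = 0) : α = 0 ∧ β = 0 ∧ γ = 0 := by
  have h1 : α + β * σ b + γ * σ b ^ 2 = 0 := by
    have := congrArg σ h
    simp only [map_add, map_mul, map_pow, map_zero, ha, hβ, hγ] at this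
    exact this
  have h2 : α + β * σ (σ b) + γ * σ (σ b) ^ 2 = 0 := by
    have := congrArg σ h1
    simp only [map_add, map_mul, map_pow, map_zero, ha, hβ, hγ] at this
    exact this
  have d1 : σ b - b ≠ 0 := sub_ne_zero.2 hb
  have d2 : σ (σ b) - σ b ≠ 0 := fun e => d1 (by
    have e2 : σ (σ b - b) = 0 := by rw [map_sub]; exact e
    exact (map_eq_zero σ).1 e2)
  have d3 : b - σ (σ b) ≠ 0 := fun e => d2 (by
    have e2 : σ (σ (b - σ (σ b))) = 0 := by rw [e]; simp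
    rw [map_sub, map_sub, hc] at e2
    exact e2)
  have e1 : β + γ * (σ b + b) = 0 := by
    have : (σ b - b) * (β + γ * (σ b + b)) = 0 := by linear_combination h1 - h
    exact (mul_eq_zero.1 this).resolve_left d1
  have e2 : β + γ * (σ (σ b) + σ b) = 0 := by
    have : (σ (σ b) - σ b) * (β + γ * (σ (σ b) + σ b)) = 0 := by linear_combination h2 - h1
    exact (mul_eq_zero.1 this).resolve_left d2
  have e3 : γ = 0 := by
    have : (b - σ (σ b)) * γ = 0 := by linear_combination e1 - e2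
    exact (mul_eq_zero.1 this).resolve_left d3
  rw [e3, zero_mul, add_zero] at e1
  refine ⟨?_, e1, e3⟩
  rw [e3, e1] at h
  linear_combination h

/-- every element is `α + β b + γ b²` -/
theorem exists_coord [Finite E] (hE : Nat.card E = Nat.card ↥(fx σ) ^ 3) (hc : ∀ a : E, σ (σ (σ a)) = a) {b : E}
    (hb : σ b ≠ b) (x : E) : ∃ α β γ : E, σ α = α ∧ σ β = β ∧ σ γ = γ ∧ α + β * b + γ * b ^ 2 = x := by
  let f : ↥(fx σ) × ↥(fx σ) × ↥(fx σ) → E := fun p => (p.1 : E) + (p.2.1 : E) * b + (p.2.2 : E) * b ^ 2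
  have hf : Function.Injective f := by
    rintro ⟨α, β, γ⟩ ⟨α', β', γ'⟩ h
    change (α : E) + (β : E) * b + (γ : E) * b ^ 2 = (α' : E) + (β' : E) * b + (γ' : E) * b ^ 2 at h
    obtain ⟨h1, h2, h3⟩ := indep hc hb (α := (α : E) - α') (β := (β : E) - β') (γ := (γ : E) - γ')
      (by rw [map_sub]; exact congrArg₂ _ α.2 α'.2) (by rw [map_sub]; exact congrArg₂ _ β.2 β'.2)
      (by rw [map_sub]; exact congrArg₂ _ γ.2 γ'.2) (by linear_combination h)
    have k1 : α = α' := Subtype.ext (sub_eq_zero.1 h1)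
    have k2 : β = β' := Subtype.ext (sub_eq_zero.1 h2)
    have k3 : γ = γ' := Subtype.ext (sub_eq_zero.1 h3)
    rw [k1, k2, k3]
  have hcard : Nat.card E ≤ Nat.card (↥(fx σ) × ↥(fx σ) × ↥(fx σ)) := by
    rw [Nat.card_prod, Nat.card_prod, hE]
    apply le_of_eq
    ring
  obtain ⟨⟨α, β, γ⟩, h⟩ := (hf.bijective_of_nat_card_le hcard).2 x
  exact ⟨α, β, γ, α.2, β.2, γ.2, h⟩

end field

section

variable {K : Subgroup L}

theorem M3_eq_top [Finite E] (hE : Nat.card E = Nat.card ↥(fx σ) ^ 3) (h : Kh c K) (h1 : (1 : E) ∈ M3 c K) {b : E}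
    (hb : σ b ≠ b) (hbM : b ∈ M3 c K) : M3 c K = ⊤ := by
  have hsq : b ^ 2 ∈ M3 c K := by
    have e : b ^ 2 = shp σ b + (b + σ b + σ (σ b)) * b + -((b * σ b + b * σ (σ b) + σ b * σ (σ b)) * 1) := by
      unfold shp
      ring
    rw [e]
    have hc := c.cube
    refine add_mem (add_mem (M3_shp h hbM) (M3_smul h ?_ hbM)) (neg_mem (M3_smul h ?_ h1))
    · rw [map_add, map_add, hc]
      ring
    · rw [map_add, map_add, map_mul, map_mul, map_mul, hc]
      ring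
  rw [eq_top_iff]
  intro x _
  obtain ⟨α, β, γ, hα, hβ, hγ, rfl⟩ := exists_coord hE c.cube hb x
  have k1 := M3_smul h hα h1
  rw [mul_one] at k1
  exact add_mem (add_mem k1 (M3_smul h hβ hbM)) (M3_smul h hγ hsq)

theorem Sb.kh {A : AddSubgroup E} {hA : GoodA σ A} {H : Subgroup L} (hS : Sb c hA H) (hK : H ≤ K) : Kh c K where
  n1 := hK hS.n1
  n6 := hK hS.n6
  even _ hk := (hS.X_le hk).trans hK

/-- **overgroups of `G₂(q)`** -/
theorem hyp_fix [Finite E] (hE : Nat.card E = Nat.card ↥(fx σ) ^ 3) {H : Subgroup L}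
    (hS : Sb c (good_fix (σ := σ)) H) (hK : H ≤ K) (hne : K ≠ ⊤) :
    ∀ s, cj (c.x1 s) (c.X 6) ≤ K → s ∈ (fx σ).toSubring.toAddSubgroup := by
  intro s hs
  by_contra hsF
  have hsF' : σ s ≠ s := hsF
  have h := hS.kh hK
  have hx1 : c.x1 1 ∈ K := hK (hS.va (x1_VA (map_one σ)))
  have h3 : (1 : E) ∈ M3 c K := hK (hS.va (x3_VA (map_one σ)))
  have w1 := wd_of_pt hs
  have w2 : Wd c K (-shp σ (1 + s)) (-(1 + s)) := by
    apply wd_of_pt
    rw [c.x1_add, cj_mul]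
    exact cj_le hx1 hs
  have w3 := wd_of_pt (pt_of_x1 h hx1)
  have w4 := ((w1.add w3).add w2.neg).congr (a' := σ s + σ (σ s)) (b' := 0) (by
    unfold shp
    simp only [map_add, map_one]
    ring) (by ring)
  have h4 : σ s + σ (σ s) ∈ M3 c K := w4.x3 h
  exact hne (eq_top_of_M3 h (M3_eq_top hE h h3 (fun e => hsF' (fix_of_add c.cube e)) h4))

/-! ### Overgroups of `SL₃(q) T` -/

/-- all `c1` occur -/
theorem exists_c1 [Finite E] {c1 : E} (h1 : c1 ≠ 0) : ∃ g c6, c.Act g c1 c6 := by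
  by_cases h2 : (2 : E) = 0
  · have : CharP E 2 := CharTwo.of_one_ne_zero_of_two_eq_zero one_ne_zero h2
    obtain ⟨_⟩ := nonempty_fintype E
    obtain ⟨s, hs⟩ := FiniteField.isSquare_of_char_two (ringChar.eq E 2) c1
    have hs0 : s ≠ 0 := by
      rintro rfl
      exact h1 (by rw [hs, mul_zero])
    refine ⟨_, _, (c.act_b s hs0).congr rfl ?_ rfl⟩
    rw [hs, pow_two]
  · obtain ⟨g, hg⟩ := c.exists_act' h2 h1 one_ne_zero (map_one σ)
    exact ⟨g, 1, hg⟩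

theorem hyp_bot [Finite E] (hσ : ∃ y : E, σ y ≠ y) {H : Subgroup L}
    (hS : Sb c (good_bot (σ := σ)) H) (hT : c.T0 ≤ H) (hK : H ≤ K) (hne : K ≠ ⊤) :
    ∀ s, cj (c.x1 s) (c.X 6) ≤ K → s ∈ (⊥ : AddSubgroup E) := by
  intro s hs
  rw [AddSubgroup.mem_bot]
  by_contra hs0
  have h := hS.kh hK
  -- all points `x1 a`
  have hall : ∀ a, Wd c K (-shp σ a) (-a) := by
    intro a
    apply wd_of_pt
    by_cases ha : a = 0
    · rw [ha, c.x1_zero, cj_one]
      exact h.even 6 (by decide)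
    obtain ⟨g, c6, hg⟩ := exists_c1 (c := c) (c1 := a * s⁻¹) (mul_ne_zero ha (inv_ne_zero hs0))
    have e1 : c.x1 a = g * c.x1 s * g⁻¹ := by
      rw [hg.a1]
      congr 1
      field_simp
    have e2 : cj (c.x1 a) (c.X 6) = cj g (cj (c.x1 s) (c.X 6)) := by
      rw [e1, mul_assoc, cj_mul, cj_mul, cj_act c hg.inv]
    rw [e2]
    exact cj_le (hK (hT ⟨_, _, hg⟩)) hs
  -- `crs a b ∈ M3`
  have hcrs : ∀ a b : E, crs σ a b ∈ M3 c K := by
    intro a b
    have w := (((hall a).add (hall b)).add (hall (a + b)).neg).congr (a' := crs σ a b) (b' := 0) (by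
      unfold shp crs
      simp only [map_add]
      ring) (by ring)
    exact w.x3 h
  obtain ⟨y, hy⟩ := hσ
  -- `d = σ y + σ² y`
  have hd : σ y + σ (σ y) ≠ 0 := by
    intro e
    apply hy
    apply fix_of_add c.cube
    rw [e, map_zero]
  have hM : M3 c K = ⊤ := by
    rw [eq_top_iff]
    intro x _
    by_cases hx : x = 0
    · rw [hx]; exact zero_mem _
    obtain ⟨z, hz⟩ : ∃ z, z = x * (σ y + σ (σ y))⁻¹ := ⟨_, rfl⟩
    have hz0 : z ≠ 0 := by rw [hz]; exact mul_ne_zero hx (inv_ne_zero hd)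
    have h1 := M3_smul h (c.nf z) (hcrs z⁻¹ (z⁻¹ * y))
    have e : nrm σ z * crs σ z⁻¹ (z⁻¹ * y) = x := by
      have k1 : σ z ≠ 0 := (map_ne_zero σ).2 hz0
      have k2 : σ (σ z) ≠ 0 := (map_ne_zero σ).2 k1
      have e1 : nrm σ z * crs σ z⁻¹ (z⁻¹ * y) = z * (σ y + σ (σ y)) := by
        unfold nrm crs
        rw [map_mul, map_mul, map_inv₀, map_inv₀]
        field_simp
        ring
      rw [e1, hz]
      field_simp
    rwa [e] at h1
  exact hne (eq_top_of_M3 h hM)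

end

end Cfsg.Agent.H812.D4
end

-- part: H812/D4/Fin
section
/-!
# Groups of type `³D₄`, any characteristic: five pairwise apart subgroups (helper812)
-/

set_option autoImplicit false

namespace Cfsg.Agent.H812.D4

open Cfsg.Agent.SplitTwo Cfsg.Agent.TitsThree.RankTwoZ Cfsg.Agent.Lib.SL2Mat Cfsg.Agent.Cit.HexBase
  Cfsg.Agent.Cit.HexBase.HexGrp Cfsg.Agent.H812.D4.Pts Cfsg.Agent.H940.MaxCls

universe u

variable {E : Type*} [Field E] {σ : E ≃+* E} {L : Type u} [Group L] (c : HexGrp σ L)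

/-- the subgroup `G₂(q)` -/
def HG : Subgroup L := Subgroup.closure ((VA c (good_fix (σ := σ)) : Set L) ∪ {c.n1, c.n6})

/-- the subgroup `(SL₃(q) T).2` -/
def HE : Subgroup L := Subgroup.closure ((VA c (good_bot (σ := σ)) : Set L) ∪ {c.n1, c.n6} ∪ (c.T0 : Set L))

theorem sb_HG [Finite L] : Sb c (good_fix (σ := σ)) (HG c) := by
  refine sb_closure Set.subset_union_left (Or.inr (Or.inl rfl)) (Or.inr (Or.inr rfl)) ?_
  rintro g (hg | rfl | rfl) B hB
  · exact VA_SV hg hB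
  · exact n1_SV hB
  · exact n6_SV hB

theorem sb_HE [Finite L] : Sb c (good_bot (σ := σ)) (HE c) := by
  refine sb_closure (Set.subset_union_left.trans Set.subset_union_left) (Or.inl (Or.inr (Or.inl rfl)))
    (Or.inl (Or.inr (Or.inr rfl))) ?_
  rintro g ((hg | rfl | rfl) | ⟨c1, c6, hg⟩) B hB
  · exact VA_SV hg hB
  · exact n1_SV hB
  · exact n6_SV hB
  · refine T_SV hg (fun a ha => ?_) hB
    rw [AddSubgroup.mem_bot] at ha
    rw [ha, mul_zero, mul_zero]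
    exact ⟨zero_mem _, zero_mem _⟩

theorem T0_le_HE : c.T0 ≤ HE c := fun _ hg => Subgroup.subset_closure (Or.inr hg)

variable {c}

/-- a subgroup all of whose proper overgroups have the points of `SV` -/
structure Rig (c : HexGrp σ L) {A : AddSubgroup E} (hA : GoodA σ A) (H : Subgroup L) : Prop where
  sb : Sb c hA H
  hyp : ∀ K : Subgroup L, H ≤ K → K ≠ ⊤ → ∀ s, cj (c.x1 s) (c.X 6) ≤ K → s ∈ A

theorem rig_HG [Finite L] [Finite E] (hE : Nat.card E = Nat.card ↥(fx σ) ^ 3) :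
    Rig c (good_fix (σ := σ)) (HG c) := ⟨sb_HG c, fun _ hK hne => hyp_fix hE (sb_HG c) hK hne⟩

theorem rig_HE [Finite L] [Finite E] (hσ : ∃ y : E, σ y ≠ y) : Rig c (good_bot (σ := σ)) (HE c) :=
  ⟨sb_HE c, fun _ hK hne => hyp_bot hσ (sb_HE c) (T0_le_HE c) hK hne⟩

/-- the points contained in `K` -/
def PK (c : HexGrp σ L) (K : Subgroup L) : Set (Subgroup L) := {B | B ∈ pts ⊤ (c.X 4) ∧ B ≤ K}

section

variable {A : AddSubgroup E} {hA : GoodA σ A} {H K : Subgroup L}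

theorem Rig.PK_eq [Finite L] (h : Rig c hA H) (hK : H ≤ K) (hne : K ≠ ⊤) : PK c K = SV c hA := by
  ext B
  constructor
  · rintro ⟨h1, h2⟩
    exact geo' h.sb hK (h.hyp K hK hne) B h1 h2
  · intro hB
    refine ⟨?_, (h.sb.le hB).trans hK⟩
    obtain ⟨u, -, k, hk, rfl⟩ := hB
    exact pt_top hk

theorem Rig.pts_eq [Finite L] (h : Rig c hA H) (hK : H ≤ K) (hne : K ≠ ⊤) : pts K (c.X 4) = SV c hA := by
  ext B
  constructor
  · rintro ⟨g, hg, rfl⟩
    rw [← h.PK_eq hK hne]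
    exact ⟨⟨g, trivial, rfl⟩, cj_le hg (h.sb.X4_le.trans hK)⟩
  · intro hB
    rw [← h.sb.pts_eq] at hB
    obtain ⟨g, hg, rfl⟩ := hB
    exact ⟨g, hK hg, rfl⟩

/-- the number of all points -/
theorem ncard_top [Finite L] [Finite E] (hE : Nat.card E = Nat.card ↥(fx σ) ^ 3) : (pts ⊤ (c.X 4)).ncard =
    (1 + Nat.card ↥(fx σ)) * (Nat.card ↥(fx σ) ^ 8 + Nat.card ↥(fx σ) ^ 4 + 1) := by
  rw [(sb_top c).pts_eq, ncard_SV hE, card_top_add, hE]
  ring

theorem ncard_fixSV [Finite L] [Finite E] (hE : Nat.card E = Nat.card ↥(fx σ) ^ 3) :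
    (SV c (good_fix (σ := σ))).ncard = 1 + Nat.card ↥(fx σ) + Nat.card ↥(fx σ) ^ 2 + Nat.card ↥(fx σ) ^ 3 +
      Nat.card ↥(fx σ) ^ 4 + Nat.card ↥(fx σ) ^ 5 := by
  rw [ncard_SV hE]
  change 1 + Nat.card ↥(fx σ) + Nat.card ↥(fx σ) * Nat.card ↥(fx σ) + Nat.card ↥(fx σ) ^ 2 * Nat.card ↥(fx σ) +
      Nat.card ↥(fx σ) ^ 2 * Nat.card ↥(fx σ) ^ 2 + Nat.card ↥(fx σ) ^ 3 * Nat.card ↥(fx σ) ^ 2 = _
  ring

theorem ncard_botSV [Finite L] [Finite E] (hE : Nat.card E = Nat.card ↥(fx σ) ^ 3) :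
    (SV c (good_bot (σ := σ))).ncard = 1 + 2 * Nat.card ↥(fx σ) + 2 * Nat.card ↥(fx σ) ^ 2 + Nat.card ↥(fx σ) ^ 3 := by
  rw [ncard_SV hE, AddSubgroup.card_bot]
  ring

/-- overgroups containing a conjugate of `U` -/
theorem Rig.eq_top_of_U [Finite L] (h : Rig c hA H) (hK : H ≤ K) (hs : ∃ s, s ∉ A) {y : L}
    (hU : cj y (Sg c.X Pos) ≤ K) : K = ⊤ := by
  by_contra hne
  have hX4U : c.X 4 ≤ Sg c.X Pos := X_le_Sg (by decide)
  have h1 : cj y (c.X 4) ∈ SV c hA := by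
    rw [← h.PK_eq hK hne]
    exact ⟨⟨y, trivial, rfl⟩, (cj_mono hX4U).trans hU⟩
  rw [← h.sb.pts_eq] at h1
  obtain ⟨e, he, h2⟩ := h1
  obtain ⟨m, hm⟩ : ∃ m, m = e⁻¹ * y := ⟨_, rfl⟩
  have hm4 : cj m (c.X 4) = c.X 4 := by rw [hm, cj_mul, h2, cj_inv_cj]
  have hmU : cj m (Sg c.X Pos) ≤ K := by
    rw [hm, cj_mul]
    exact cj_le (inv_mem (hK he)) hU
  obtain ⟨s, hs⟩ := hs
  apply hs
  refine h.hyp K hK hne s ?_
  -- the point `cj m⁻¹ (cj (x1 s) (X 6))` commutes with `X 4`, so it is in `U`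
  have hx : c.x1 s ∈ Sg c.X Pos := c.sg (by decide) (c.mem1 s)
  have h3 : Cm (cj (m⁻¹ * c.x1 s) (c.X 6)) (c.X 4) := by
    have h4 := (cm_even (c := c) (k := 6) (j := 4) (by decide) (by decide)).cj (m⁻¹ * c.x1 s)
    have h5 : cj (m⁻¹ * c.x1 s) (c.X 4) = c.X 4 := by
      rw [cj_mul, cj_X4 hx, ← cj_eq_iff.1 hm4]
    rwa [h5] at h4
  obtain ⟨u, hu, k, hk, h6⟩ := exists_pt (c := c) (B := cj (m⁻¹ * c.x1 s) (c.X 6)) (pt_top (by decide))
  have h7 : cj (m⁻¹ * c.x1 s) (c.X 6) ≤ Sg c.X Pos := by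
    rw [h6] at h3 ⊢
    have h8 : c.X k ≤ Sg c.X Pos := by
      rcases cm_cases hu hk h3 with rfl | rfl | rfl
      · exact X_le_Sg (by decide)
      · exact X_le_Sg (by decide)
      · exact X_le_Sg (by decide)
    exact cj_le hu h8
  have h9 : cj (c.x1 s) (c.X 6) = cj m (cj (m⁻¹ * c.x1 s) (c.X 6)) := by
    rw [← cj_mul]
    congr 1
    group
  rw [h9]
  exact (cj_mono h7).trans hmU

theorem nz_dvd [Finite L] [Finite E] (hE : Nat.card E = Nat.card ↥(fx σ) ^ 3)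
    (hL : Nat.card L = Nat.card ↥(fx σ) ^ 12 * (Nat.card ↥(fx σ) ^ 8 + Nat.card ↥(fx σ) ^ 4 + 1) *
      (Nat.card ↥(fx σ) ^ 6 - 1) * (Nat.card ↥(fx σ) ^ 2 - 1)) :
    Nat.card ↥(nz (c.X 4)) ∣ Nat.card ↥(fx σ) ^ 12 * (Nat.card ↥(fx σ) ^ 6 - 1) * (Nat.card ↥(fx σ) ^ 2 - 1) := by
  have h1 := card_pts ⊤ (c.X 4)
  rw [ncard_top hE, top_inf_eq, Subgroup.card_top, hL] at h1
  generalize Nat.card ↥(fx σ) = q at *
  have hpos : 0 < q ^ 8 + q ^ 4 + 1 := by (clear * -; positivity)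
  refine Dvd.intro_left (1 + q) ?_
  apply Nat.eq_of_mul_eq_mul_left hpos
  calc (q ^ 8 + q ^ 4 + 1) * ((1 + q) * Nat.card ↥(nz (c.X 4)))
      = (1 + q) * (q ^ 8 + q ^ 4 + 1) * Nat.card ↥(nz (c.X 4)) := by ring
    _ = _ := by rw [h1]; ring

/-- overgroups of order divisible by `r` -/
theorem Rig.eq_top_of_dvd [Finite L] (h : Rig c hA H) (hK : H ≤ K) {r : ℕ} (hr : r.Prime)
    (h1 : ¬ r ∣ (SV c hA).ncard) (h2 : ¬ r ∣ Nat.card ↥(nz (c.X 4))) (hrK : r ∣ Nat.card K) : K = ⊤ := by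
  by_contra hne
  rw [← card_pts K (c.X 4), h.pts_eq hK hne] at hrK
  rcases hr.dvd_mul.1 hrK with h3 | h3
  · exact h1 h3
  · exact h2 (h3.trans (Subgroup.card_dvd_of_le inf_le_right))

theorem Rig.ne_top [Finite L] (h : Rig c hA H) (hc : (SV c hA).ncard ≠ (pts ⊤ (c.X 4)).ncard) : H ≠ ⊤ := by
  rintro rfl
  exact hc (by rw [h.sb.pts_eq])

theorem ncard_PK_cj [Finite L] (g : L) (K : Subgroup L) : (PK c (cj g K)).ncard = (PK c K).ncard := by
  have e : PK c (cj g K) = cj g '' PK c K := by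
    ext B
    rw [Set.mem_image]
    constructor
    · rintro ⟨⟨y, -, rfl⟩, h2⟩
      refine ⟨cj g⁻¹ (cj y (c.X 4)), ⟨?_, ?_⟩, cj_cj_inv _ _⟩
      · rw [← cj_mul]
        exact ⟨_, trivial, rfl⟩
      · have := cj_mono (g := g⁻¹) h2
        rwa [cj_inv_cj] at this
    · rintro ⟨C, ⟨⟨y, -, rfl⟩, h2⟩, rfl⟩
      refine ⟨?_, cj_mono h2⟩
      rw [← cj_mul]
      exact ⟨_, trivial, rfl⟩
  rw [e]
  exact Set.InjOn.ncard_image fun a _ b _ hab => cj_inj hab

end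

theorem cj_eq_top_iff {g : L} {K : Subgroup L} : cj g K = ⊤ ↔ K = ⊤ := by
  have key : ∀ g : L, cj g (⊤ : Subgroup L) = ⊤ := by
    intro g
    ext x
    rw [mem_cj]
    simp
  constructor
  · intro h
    rw [cj_eq_iff, key] at h
    exact h
  · rintro rfl
    exact key g

/-- `SL₃(q) T` and `G₂(q)` are apart -/
theorem apart_HE_HG [Finite L] [Finite E] (hE : Nat.card E = Nat.card ↥(fx σ) ^ 3) (hσ : ∃ y : E, σ y ≠ y) :
    Apart (HE c) (HG c) := by
  intro g K h1 h2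
  by_contra hne
  have k1 := (rig_HE (c := c) hσ).PK_eq h1 hne
  have hle : HG c ≤ cj g⁻¹ K := by
    intro x hx
    rw [mem_cj, inv_inv]
    exact h2 x hx
  have hne' : cj g⁻¹ K ≠ ⊤ := fun h => hne (cj_eq_top_iff.1 h)
  have k2 := (rig_HG (c := c) hE).PK_eq hle hne'
  have h3 := ncard_PK_cj (c := c) g⁻¹ K
  rw [k1, k2, ncard_fixSV hE, ncard_botSV hE] at h3
  have hq : 2 ≤ Nat.card ↥(fx σ) := Finite.one_lt_card
  generalize Nat.card ↥(fx σ) = q at h3 hq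
  have h4 : q ^ 2 * 4 ≤ q ^ 4 := by nlinarith only [Nat.pow_le_pow_left hq 2]
  have h5 : q * 8 ≤ q ^ 5 := by
    have : q ^ 5 = q ^ 4 * q := by ring
    nlinarith only [Nat.pow_le_pow_left hq 4]
  linarith only [h3, hq, h4, h5, _root_.sq_nonneg (↑q : ℤ)]

/-- a `p`-subgroup is conjugate into a subgroup of index prime to `p` -/
theorem exists_cj_le [Finite L] {p : ℕ} [Fact p.Prime] {U S : Subgroup L} (hU : IsPGroup p ↥U)
    (hS : ¬ p ∣ S.index) : ∃ y : L, cj y U ≤ S := by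
  obtain ⟨Q⟩ : Nonempty (Sylow p ↥S) := inferInstance
  have hQp : IsPGroup p ↥((Q : Subgroup ↥S).map S.subtype) := Q.isPGroup'.map _
  have hidx : ¬ p ∣ ((Q : Subgroup ↥S).map S.subtype).index := by
    intro hd
    have e : ((Q : Subgroup ↥S).map S.subtype).index = (Q : Subgroup ↥S).index * S.index := by
      rw [Subgroup.index_map, Subgroup.ker_subtype, sup_bot_eq, Subgroup.range_subtype]
    rw [e] at hd
    rcases (Fact.out : p.Prime).dvd_mul.1 hd with h | h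
    · exact Q.not_dvd_index h
    · exact hS h
  let P : Sylow p L := hQp.toSylow hidx
  obtain ⟨R, hR⟩ := hU.exists_le_sylow
  obtain ⟨y, hy⟩ := MulAction.exists_smul_eq L R P
  refine ⟨y, ?_⟩
  have h1 : cj y (R : Subgroup L) = (P : Subgroup L) := by
    rw [← hy]
    rfl
  have h2 : (P : Subgroup L) ≤ S := by
    change (Q : Subgroup ↥S).map S.subtype ≤ S
    exact Subgroup.map_subtype_le _
  exact ((cj_mono hR).trans h1.le).trans h2

theorem isPGroup_U [Finite E] {p n : ℕ} [Fact p.Prime] (hq : Nat.card ↥(fx σ) = p ^ n) 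
    (hE : Nat.card E = Nat.card ↥(fx σ) ^ 3) : IsPGroup p ↥(Sg c.X Pos) := by
  rw [← VA_top]
  refine IsPGroup.of_card (n := n * 12) ?_
  rw [card_VA, card_top_add, hE, hq]
  rw [← pow_mul, ← pow_mul, ← pow_mul, ← pow_add]
  congr 1
  ring

open Cfsg.Agent.H436 in
/-- **five pairwise apart subgroups** -/
theorem sep_five_hex [Finite L] [Finite E] (c : HexGrp σ L) (hE : Nat.card E = Nat.card ↥(fx σ) ^ 3)
    (hσ : ∃ y : E, σ y ≠ y) {p n : ℕ} [Fact p.Prime] (hq : Nat.card ↥(fx σ) = p ^ n)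
    (hL : Nat.card L = Nat.card ↥(fx σ) ^ 12 * (Nat.card ↥(fx σ) ^ 8 + Nat.card ↥(fx σ) ^ 4 + 1) *
      (Nat.card ↥(fx σ) ^ 6 - 1) * (Nat.card ↥(fx σ) ^ 2 - 1)) {r : ℕ} (hr : Prim (Nat.card ↥(fx σ)) 12 r)
    {P₁ P₂ D : Subgroup L} (h1 : P₁ ≠ ⊤) (h2 : P₂ ≠ ⊤) (h3 : D ≠ ⊤) (h12 : Apart P₁ P₂) (h13 : Apart P₁ D)
    (h23 : Apart P₂ D) (hp1 : ¬ p ∣ P₁.index) (hp2 : ¬ p ∣ P₂.index) (hD : r ∣ Nat.card D) : Sep 5 L := by
  have hU := isPGroup_U (c := c) hq hE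
  have rG := rig_HG (c := c) hE
  have rE := rig_HE (c := c) hσ
  have hnz : ¬ r ∣ Nat.card ↥(nz (c.X 4)) := by
    intro hd
    rcases hr.prime.dvd_mul.1 (hd.trans (nz_dvd hE hL)) with h | h
    · rcases hr.prime.dvd_mul.1 h with h | h
      · exact hr.not_dvd_pow _ h
      · exact hr.not_dvd_sub (by norm_num) h
    · exact hr.not_dvd_sub (by norm_num) h
  have hq2 : 2 ≤ Nat.card ↥(fx σ) := Finite.one_lt_card
  have hG : ¬ r ∣ (SV c (good_fix (σ := σ))).ncard := by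
    rw [ncard_fixSV hE]
    intro hd
    refine hr.not_dvd_sub (m := 6) (by norm_num) (hd.trans (Dvd.intro_left (Nat.card ↥(fx σ) - 1) ?_))
    generalize Nat.card ↥(fx σ) = q at hq2
    obtain ⟨m, rfl⟩ : ∃ m, q = m + 1 := ⟨q - 1, by omega⟩
    rw [Nat.add_sub_cancel]
    have : (m + 1) ^ 6 = m * (1 + (m + 1) + (m + 1) ^ 2 + (m + 1) ^ 3 + (m + 1) ^ 4 + (m + 1) ^ 5) + 1 := by ring
    rw [this, Nat.add_sub_cancel]
  have hB : ¬ r ∣ (SV c (good_bot (σ := σ))).ncard := by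
    rw [ncard_botSV hE]
    intro hd
    have e : 1 + 2 * Nat.card ↥(fx σ) + 2 * Nat.card ↥(fx σ) ^ 2 + Nat.card ↥(fx σ) ^ 3 =
        (1 + Nat.card ↥(fx σ)) * (1 + Nat.card ↥(fx σ) + Nat.card ↥(fx σ) ^ 2) := by ring
    rw [e] at hd
    rcases hr.prime.dvd_mul.1 hd with h | h
    · refine hr.not_dvd_sub (m := 2) (by norm_num) (h.trans (Dvd.intro_left (Nat.card ↥(fx σ) - 1) ?_))
      generalize Nat.card ↥(fx σ) = q at hq2
      obtain ⟨m, rfl⟩ : ∃ m, q = m + 1 := ⟨q - 1, by omega⟩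
      rw [Nat.add_sub_cancel]
      have : (m + 1) ^ 2 = m * (1 + (m + 1)) + 1 := by ring
      rw [this, Nat.add_sub_cancel]
    · refine hr.not_dvd_sub (m := 3) (by norm_num) (h.trans (Dvd.intro_left (Nat.card ↥(fx σ) - 1) ?_))
      generalize Nat.card ↥(fx σ) = q at hq2
      obtain ⟨m, rfl⟩ : ∃ m, q = m + 1 := ⟨q - 1, by omega⟩
      rw [Nat.add_sub_cancel]
      have : (m + 1) ^ 3 = m * (1 + (m + 1) + (m + 1) ^ 2) + 1 := by ring
      rw [this, Nat.add_sub_cancel]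
  -- `r` divides the number of all points
  have hall : r ∣ (pts ⊤ (c.X 4)).ncard := by
    have h4 := card_pts ⊤ (c.X 4)
    rw [top_inf_eq, Subgroup.card_top] at h4
    have h5 : r ∣ Nat.card L := hD.trans (Subgroup.card_subgroup_dvd_card D)
    rw [← h4] at h5
    exact (hr.prime.dvd_mul.1 h5).resolve_right hnz
  have neG : HG c ≠ ⊤ := rG.ne_top fun e => hG (by rw [e]; exact hall)
  have neE : HE c ≠ ⊤ := rE.ne_top fun e => hB (by rw [e]; exact hall)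
  have sG : ∃ s : E, s ∉ (fx σ).toSubring.toAddSubgroup := hσ
  have sE : ∃ s : E, s ∉ (⊥ : AddSubgroup E) := ⟨1, fun h => one_ne_zero (AddSubgroup.mem_bot.1 h)⟩
  have apP : ∀ {A : AddSubgroup E} {hA : GoodA σ A} {H : Subgroup L} {P : Subgroup L}, Rig c hA H →
      (∃ s, s ∉ A) → ¬ p ∣ P.index → Apart P H := by
    intro A hA H P hR hs hP
    refine Apart.symm ?_
    intro g K k1 k2
    obtain ⟨y, hy⟩ := exists_cj_le hU hP
    refine hR.eq_top_of_U k1 hs (y := g * y) ?_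
    rw [cj_mul]
    exact (cj_mono hy).trans (cj_le_iff.2 k2)
  have apD : ∀ {A : AddSubgroup E} {hA : GoodA σ A} {H : Subgroup L}, Rig c hA H →
      ¬ r ∣ (SV c hA).ncard → Apart D H := by
    intro A hA H hR hS
    refine (apart_of_card' fun K k1 k2 => ?_ : Apart H D).symm
    exact hR.eq_top_of_dvd k1 hr.prime hS hnz (hD.trans k2)
  exact sep_five h1 h2 h3 neE neG h12 h13 (apP rE sE hp1) (apP rG sG hp1) h23 (apP rE sE hp2) (apP rG sG hp2)
    (apD rE hB) (apD rG hG) (apart_HE_HG hE hσ)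

end Cfsg.Agent.H812.D4
end
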